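import Mathlib
import Groth.Prelude.Def_FEt
import Groth.Agent.Lib.Helper7.EtH0.Stein
import Groth.Agent.Lib.Helper7.EtH0.NormBC
import Groth.Agent.Lib.Helper7.EtH0.GeomRed
import Groth.Agent.Lib.Helper7.EtH0.Count
import Groth.Agent.Lib.Helper7.GeomConn.UnivOpenRad
import Groth.Agent.Lib.Helper5.WEt.Scheme

set_option linter.style.haveILetI false
set_option linter.unusedVariables false
set_option linter.unusedSectionVars false
set_option autoImplicit false
set_option backward.isDefEq.respectTransparency.types false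
set_option synthInstance.maxHeartbeats 400000
set_option maxHeartbeats 1600000

universe u

/-! helper7: a connected finite étale cover of the total space of a proper flat finitely presented family with connected reduced geometric fibres which has a section over one geometric fibre comes from the base (through the finite étale Stein factorization of the cover) -/

open CategoryTheory CategoryTheory.Limits AlgebraicGeometry TopologicalSpace Opposite

namespace Groth.Agent.Helper7.FEtDesc

open Groth.Agent.Helper7.GeomConn Groth.Agent.Helper7.EtH0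

section Topo

/-- a clopen subset avoiding a fibre of a closed and open map to a preconnected space is empty -/
theorem eq_empty_of_clopen_of_fibre {α β : Type*} [TopologicalSpace α] [TopologicalSpace β]
    [PreconnectedSpace β] (ρ : α → β) (hcl : IsClosedMap ρ) (hop : IsOpenMap ρ) (R : Set α)
    (hR : IsClopen R) (s₀ : β) (hs₀ : ∀ r ∈ R, ρ r ≠ s₀) : R = ∅ := by
  have h1 : IsClopen (ρ '' R) := ⟨hcl _ hR.1, hop _ hR.2⟩
  rcases isClopen_iff.mp h1 with h2 | h2
  · exact Set.image_eq_empty.mp h2
  · exfalso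
    have h3 : s₀ ∈ ρ '' R := h2 ▸ Set.mem_univ _
    obtain ⟨r, hr, hrs⟩ := h3
    exact hs₀ r hr hrs

end Topo

section Affinization

/-- a morphism inducing an isomorphism on global functions to an affine scheme is an
affinization: every morphism to an affine scheme factors uniquely through it -/
theorem existsUnique_fac_of_isIso_appTop {Z T W : Scheme.{u}} (p : Z ⟶ T) [IsAffine T]
    [IsIso p.appTop] [IsAffine W] (m : Z ⟶ W) : ∃! a : T ⟶ W, p ≫ a = m := by
  have hfac : p ≫ (T.toSpecΓ ≫ Spec.map (m.appTop ≫ inv p.appTop) ≫ inv W.toSpecΓ) = m := by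
    rw [← Category.assoc, Scheme.toSpecΓ_naturality, Category.assoc,
      ← Category.assoc (Spec.map p.appTop), ← Spec.map_comp, Category.assoc, IsIso.inv_hom_id,
      Category.comp_id, ← Category.assoc, ← Scheme.toSpecΓ_naturality, Category.assoc,
      IsIso.hom_inv_id, Category.comp_id]
  refine ⟨_, hfac, ?_⟩
  intro a' ha'
  apply ext_of_isAffine
  have h1 : (p ≫ a').appTop =
      (p ≫ (T.toSpecΓ ≫ Spec.map (m.appTop ≫ inv p.appTop) ≫ inv W.toSpecΓ)).appTop := by
    rw [ha', hfac]
  rw [Scheme.Hom.comp_appTop, Scheme.Hom.comp_appTop] at h1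
  exact (cancel_mono p.appTop).mp h1

/-- such a morphism is an epimorphism with respect to affine targets -/
theorem eq_of_comp_eq_of_isIso_appTop {Z T W : Scheme.{u}} (p : Z ⟶ T) [IsIso p.appTop]
    [IsAffine W] {a₁ a₂ : T ⟶ W} (h : p ≫ a₁ = p ≫ a₂) : a₁ = a₂ := by
  apply ext_of_isAffine
  have h1 : (p ≫ a₁).appTop = (p ≫ a₂).appTop := by rw [h]
  rw [Scheme.Hom.comp_appTop, Scheme.Hom.comp_appTop] at h1
  exact (cancel_mono p.appTop).mp h1

end Affinization

section Field

/-- a proper connected reduced scheme over an algebraically closed field has only the constant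
global functions -/
theorem isIso_appTop_of_connected_reduced (Ω : Type u) [Field Ω] [IsAlgClosed Ω] {Z : Scheme.{u}}
    (p : Z ⟶ Spec (CommRingCat.of Ω)) [IsProper p] [ConnectedSpace ↥Z] [IsReduced Z] :
    IsIso p.appTop := by
  letI a1 : Algebra Ω Γ(Z, ⊤) := (toΓ Ω Z p).toAlgebra
  haveI hfin : Module.Finite Ω Γ(Z, ⊤) := finite_globalSections Ω Z p
  haveI hredΓ : _root_.IsReduced Γ(Z, ⊤) := inferInstance
  obtain ⟨e⟩ := nonempty_connectedComponents_equiv_primeSpectrum p
  haveI : Subsingleton (PrimeSpectrum Γ(Z, ⊤)) := e.symm.subsingleton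
  obtain ⟨z₀⟩ : Nonempty ↥Z := inferInstance
  obtain ⟨𝔭, -⟩ : ∃ 𝔭 : PrimeSpectrum Γ(Z, ⊤), True := ⟨e (z₀ : _root_.ConnectedComponents ↥Z), trivial⟩
  have hbot : 𝔭.asIdeal = ⊥ := by
    apply le_antisymm _ bot_le
    have h2 : nilradical Γ(Z, ⊤) = ⊥ := nilradical_eq_bot_iff.mpr inferInstance
    rw [← h2, nilradical_eq_sInf]
    apply le_sInf
    intro J hJ
    have hJ' : J.IsPrime := hJ
    have h4 : (⟨J, hJ'⟩ : PrimeSpectrum Γ(Z, ⊤)) = 𝔭 := Subsingleton.elim _ _
    have h5 : 𝔭.asIdeal = J := by rw [← h4]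
    exact h5.le
  haveI : (⊥ : Ideal Γ(Z, ⊤)).IsPrime := hbot ▸ 𝔭.isPrime
  haveI : IsDomain Γ(Z, ⊤) := IsDomain.of_bot_isPrime _
  haveI : Algebra.IsIntegral Ω Γ(Z, ⊤) := inferInstance
  have hbij : Function.Bijective (algebraMap Ω Γ(Z, ⊤)) :=
    IsAlgClosed.algebraMap_bijective_of_isIntegral
  have h3 : (toΓ Ω Z p).comp (Scheme.ΓSpecIso (CommRingCat.of Ω)).hom.hom = p.appTop.hom := by
    refine RingHom.ext fun x => ?_
    have h4 : (Scheme.ΓSpecIso (CommRingCat.of Ω)).inv.hom
        ((Scheme.ΓSpecIso (CommRingCat.of Ω)).hom.hom x) = x :=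
      congrArg (fun ψ => ψ.hom x) (Scheme.ΓSpecIso (CommRingCat.of Ω)).hom_inv_id
    change p.appTop.hom ((Scheme.ΓSpecIso (CommRingCat.of Ω)).inv.hom
      ((Scheme.ΓSpecIso (CommRingCat.of Ω)).hom.hom x)) = _
    rw [h4]
  rw [ConcreteCategory.isIso_iff_bijective]
  have h6 : Function.Bijective ((toΓ Ω Z p).comp (Scheme.ΓSpecIso (CommRingCat.of Ω)).hom.hom) :=
    hbij.comp (ConcreteCategory.bijective_of_isIso (Scheme.ΓSpecIso (CommRingCat.of Ω)).hom)
  rw [h3] at h6
  exact h6

end Field

section Reduced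

/-- étale covers of reduced geometric fibres are reduced -/
theorem isReduced_pullback_comp_etale {X S Y T : Scheme.{u}} (f : X ⟶ S) (g : Y ⟶ X) [Etale g]
    (σ : T ⟶ S) [IsReduced (pullback f σ)] : IsReduced (pullback (g ≫ f) σ) := by
  haveI : IsReduced (pullback g (pullback.fst f σ)) :=
    Helper5.WEt.isReduced_of_weaklyEtale_scheme (pullback.snd g (pullback.fst f σ))
  exact isReduced_of_isOpenImmersion (pullbackRightPullbackFstIso f σ g).inv

/-- the algebras of global functions of the fibres of a proper morphism with reduced geometric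
fibres are étale -/
theorem etale_fibres_of_reduced {X S : Scheme.{u}} (f : X ⟶ S) [IsProper f]
    (hred : ∀ (Ω : Type u) [Field Ω] [IsAlgClosed Ω] (σ : Spec (CommRingCat.of Ω) ⟶ S),
      IsReduced (pullback f σ)) (t : S) : (f.fiberToSpecResidueField t).appTop.hom.Etale := by
  haveI : IsProper (f.fiberToSpecResidueField t) :=
    inferInstanceAs (IsProper (pullback.snd f (S.fromSpecResidueField t)))
  have hpb : IsPullback (f.fiberι t) (f.fiberToSpecResidueField t) f
      (S.fromSpecResidueField t) := IsPullback.of_hasPullback f (S.fromSpecResidueField t)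
  have hpaste := (IsPullback.of_hasPullback (f.fiberToSpecResidueField t)
    (Spec.map (CommRingCat.ofHom (algebraMap (S.residueField t)
      (AlgebraicClosure (S.residueField t)))))).paste_horiz hpb
  haveI := hred (AlgebraicClosure (S.residueField t))
    (Spec.map (CommRingCat.ofHom (algebraMap (S.residueField t)
      (AlgebraicClosure (S.residueField t)))) ≫ S.fromSpecResidueField t)
  have hred' : IsReduced (pullback (f.fiberToSpecResidueField t)
      (Spec.map (CommRingCat.ofHom (algebraMap (S.residueField t)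
        (AlgebraicClosure (S.residueField t)))))) :=
    isReduced_of_isOpenImmersion hpaste.isoPullback.hom
  exact etale_appTop_of_isReduced_baseChange
    (algebraMap (S.residueField t) (AlgebraicClosure (S.residueField t)))
    (f.fiberToSpecResidueField t) hred'

end Reduced

section Stein

/-- the first Stein factor of a proper flat finitely presented morphism whose fibres have étale
algebras of global functions has geometrically connected fibres (no Noetherian hypothesis) -/
theorem geometricallyConnected_toNormalization_of_etale {X S : Scheme.{u}} (h : X ⟶ S)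
    [IsProper h] [LocallyOfFinitePresentation h] [Flat h]
    (het : ∀ t : S, (h.fiberToSpecResidueField t).appTop.hom.Etale) :
    GeometricallyConnected h.toNormalization := by
  refine ⟨fun K _ y Z fst snd hZ => ?_⟩
  show ConnectedSpace ↥Z
  obtain ⟨t, ht⟩ : ∃ t : Spec (CommRingCat.of K) ⟶ S, t = y ≫ h.fromNormalization := ⟨_, rfl⟩
  haveI : IsIso (h.normalizationPullback t) := isIso_normalizationPullback h het t
  haveI : IsLocallyNoetherian (Spec (CommRingCat.of K)) := inferInstance
  haveI : GeometricallyConnected (pullback.snd h t).toNormalization :=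
    Groth.Agent.Helper7.GeomConn.UI.geometricallyConnected_toNormalization (pullback.snd h t)
  obtain ⟨m, hmdef⟩ : ∃ m : pullback h t ⟶ pullback h.fromNormalization t,
      m = (pullback.snd h t).toNormalization ≫ h.normalizationPullback t := ⟨_, rfl⟩
  haveI : GeometricallyConnected m := by
    rw [hmdef]
    exact (MorphismProperty.cancel_right_of_respectsIso @GeometricallyConnected _ _).mpr
      inferInstance
  have hm1 : m ≫ pullback.fst h.fromNormalization t = pullback.fst h t ≫ h.toNormalization := by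
    rw [hmdef, Category.assoc]
    exact Scheme.Hom.toNormalization_normalizationPullback_fst h t
  have hm2 : m ≫ pullback.snd h.fromNormalization t = pullback.snd h t := by
    rw [hmdef, Category.assoc, Scheme.Hom.normalizationPullback_snd,
      Scheme.Hom.toNormalization_fromNormalization]
  have hA : IsPullback (pullback.fst h t) m h.toNormalization
      (pullback.fst h.fromNormalization t) := by
    refine IsPullback.of_bot ?_ hm1.symm (IsPullback.of_hasPullback h.fromNormalization t)
    rw [hm2, Scheme.Hom.toNormalization_fromNormalization]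
    exact IsPullback.of_hasPullback h t
  have hycond : y ≫ h.fromNormalization = 𝟙 _ ≫ t := by rw [Category.id_comp, ht]
  obtain ⟨y', hy'def⟩ : ∃ y' : Spec (CommRingCat.of K) ⟶ pullback h.fromNormalization t,
      y' = pullback.lift y (𝟙 _) hycond := ⟨_, rfl⟩
  have hy'1 : y' ≫ pullback.fst h.fromNormalization t = y := by
    rw [hy'def]; exact pullback.lift_fst _ _ _
  have hlcond : fst ≫ h.toNormalization = (snd ≫ y') ≫ pullback.fst h.fromNormalization t := by
    rw [Category.assoc, hy'1]
    exact hZ.w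
  have hsq : IsPullback (hA.lift fst (snd ≫ y') hlcond) snd m y' := by
    refine IsPullback.of_right ?_ (hA.lift_snd _ _ _) hA
    rw [hA.lift_fst, hy'1]
    exact hZ
  exact GeometricallyConnected.geometrically_connectedSpace (f := m) y' _ _ hsq

/-- a morphism whose composition with an étale morphism is flat and locally of finite
presentation is flat and locally of finite presentation -/
theorem flat_lfp_of_comp_etale {Y S' S : Scheme.{u}} (h' : Y ⟶ S') (ν : S' ⟶ S) [Etale ν]
    [Flat (h' ≫ ν)] [LocallyOfFinitePresentation (h' ≫ ν)] :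
    Flat h' ∧ LocallyOfFinitePresentation h' := by
  have hcond : 𝟙 Y ≫ (h' ≫ ν) = h' ≫ ν := Category.id_comp _
  obtain ⟨Γ, hΓdef⟩ : ∃ Γ : Y ⟶ pullback (h' ≫ ν) ν, Γ = pullback.lift (𝟙 Y) h' hcond :=
    ⟨_, rfl⟩
  have hΓ1 : Γ ≫ pullback.fst (h' ≫ ν) ν = 𝟙 Y := by
    rw [hΓdef]; exact pullback.lift_fst _ _ _
  have hΓ2 : Γ ≫ pullback.snd (h' ≫ ν) ν = h' := by
    rw [hΓdef]; exact pullback.lift_snd _ _ _
  haveI : Etale (Γ ≫ pullback.fst (h' ≫ ν) ν) := by rw [hΓ1]; infer_instance
  haveI : Etale Γ := Etale.of_comp Γ (pullback.fst (h' ≫ ν) ν)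
  rw [← hΓ2]
  exact ⟨inferInstance, inferInstance⟩

end Stein

section Section

/-- a separated étale morphism from a connected scheme with a section is an isomorphism -/
theorem isIso_of_section {A B : Scheme.{u}} (c' : A ⟶ B) [Etale c'] [IsSeparated c']
    (σ' : B ⟶ A) (hσ : σ' ≫ c' = 𝟙 B) [ConnectedSpace ↥A] [Nonempty ↥B] :
    IsIso σ' ∧ IsIso c' := by
  haveI : Etale (σ' ≫ c') := by rw [hσ]; infer_instance
  haveI : Etale σ' := Etale.of_comp σ' c'
  haveI : Mono σ' := by
    haveI : Mono (σ' ≫ c') := by rw [hσ]; infer_instance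
    exact mono_of_mono σ' c'
  haveI : IsOpenImmersion σ' := IsOpenImmersion.of_flat_of_mono σ'
  haveI : IsClosedImmersion (σ' ≫ c') := by rw [hσ]; infer_instance
  haveI : IsClosedImmersion σ' := IsClosedImmersion.of_comp σ' c'
  have hclopen : IsClopen (Set.range σ') :=
    ⟨σ'.isClosedEmbedding.isClosed_range, σ'.isOpenEmbedding.isOpen_range⟩
  have hrange : Set.range σ' = Set.univ := by
    rcases isClopen_iff.mp hclopen with h0 | h1
    · exfalso
      obtain ⟨b⟩ := ‹Nonempty ↥B›
      have hb : σ' b ∈ Set.range σ' := ⟨b, rfl⟩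
      rw [h0] at hb
      exact hb
    · exact h1
  haveI hiso : IsIso σ' := by
    apply isIso_of_isOpenImmersion_of_opensRange_eq_top
    apply TopologicalSpace.Opens.ext
    simpa using hrange
  refine ⟨hiso, ?_⟩
  have hc' : c' = inv σ' := (IsIso.inv_eq_of_hom_inv_id hσ).symm
  rw [hc']
  infer_instance

end Section

section Spread

variable {Y P S' T XT : Scheme.{u}} (c : Y ⟶ P) [IsFinite c] [Etale c] (q : P ⟶ S')
  [PreconnectedSpace ↥S'] (a : T ⟶ S') (j : XT ⟶ P) (pT : XT ⟶ T)
  (hPa : IsPullback j pT q a)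

include hPa in
/-- a finite étale morphism over a connected base which is a monomorphism over one point of the
base is a monomorphism -/
theorem mono_of_mono_fibre (t₀ : ↥T) [UniversallyClosed (c ≫ q)] [UniversallyOpen (c ≫ q)]
    [Mono (pullback.snd c j)] : Mono c := by
  rw [← pullback.isIso_diagonal_iff]
  haveI : IsOpenImmersion (pullback.diagonal c) := inferInstance
  haveI : IsClosedImmersion (pullback.diagonal c) := inferInstance
  suffices hR : (Set.range (pullback.diagonal c))ᶜ = ∅ by
    apply isIso_of_isOpenImmersion_of_opensRange_eq_top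
    apply TopologicalSpace.Opens.ext
    simpa using Set.compl_empty_iff.mp hR
  obtain ⟨ρ, hρdef⟩ : ∃ ρ : pullback c c ⟶ S', ρ = pullback.fst c c ≫ c ≫ q := ⟨_, rfl⟩
  haveI : UniversallyClosed ρ := by rw [hρdef]; infer_instance
  haveI : UniversallyOpen ρ := by rw [hρdef]; infer_instance
  refine eq_empty_of_clopen_of_fibre ρ ρ.isClosedMap ρ.isOpenMap _ ?_ (a t₀) ?_
  · exact ⟨(pullback.diagonal c).isOpenEmbedding.isOpen_range.isClosed_compl,
      (pullback.diagonal c).isClosedEmbedding.isClosed_range.isOpen_compl⟩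
  · intro r hr hρr
    apply hr
    obtain ⟨w, hw1, -⟩ := Scheme.Pullback.exists_preimage_pullback (f := ρ) (g := a) r t₀ hρr
    have hcond : pullback.fst ρ a ≫ ρ = pullback.snd ρ a ≫ a := pullback.condition
    obtain ⟨w₁, hw₁⟩ : ∃ w₁ : pullback ρ a ⟶ Y, w₁ = pullback.fst ρ a ≫ pullback.fst c c :=
      ⟨_, rfl⟩
    obtain ⟨w₂, hw₂⟩ : ∃ w₂ : pullback ρ a ⟶ Y, w₂ = pullback.fst ρ a ≫ pullback.snd c c :=
      ⟨_, rfl⟩
    have h12 : w₁ ≫ c = w₂ ≫ c := by
      rw [hw₁, hw₂, Category.assoc, Category.assoc, pullback.condition]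
    have h8 : pullback.fst ρ a ≫ ρ = pullback.fst ρ a ≫ pullback.fst c c ≫ c ≫ q :=
      congrArg (fun φ => pullback.fst ρ a ≫ φ) hρdef
    have hlift : (w₁ ≫ c) ≫ q = pullback.snd ρ a ≫ a := by
      rw [← hcond, h8, hw₁, Category.assoc, Category.assoc]
    have hg1 : hPa.lift (w₁ ≫ c) (pullback.snd ρ a) hlift ≫ j = w₁ ≫ c := hPa.lift_fst _ _ _
    have hu : (pullback.lift w₁ (hPa.lift (w₁ ≫ c) (pullback.snd ρ a) hlift) hg1.symm :
        pullback ρ a ⟶ pullback c j) =
        pullback.lift w₂ (hPa.lift (w₁ ≫ c) (pullback.snd ρ a) hlift) (by rw [hg1, h12]) := by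
      rw [← cancel_mono (pullback.snd c j), pullback.lift_snd, pullback.lift_snd]
    have hw : w₁ = w₂ := by
      have h7 := congrArg (fun φ => φ ≫ pullback.fst c j) hu
      simpa only [pullback.lift_fst] using h7
    have hfac : pullback.fst ρ a = w₁ ≫ pullback.diagonal c := by
      apply pullback.hom_ext
      · rw [Category.assoc, pullback.diagonal_fst, Category.comp_id, hw₁]
      · rw [Category.assoc, pullback.diagonal_snd, Category.comp_id, hw, hw₂]
    refine ⟨w₁ w, ?_⟩
    rw [← hw1, hfac]
    rfl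

include hPa in
/-- a finite étale morphism over a connected base which is surjective over one point of the
base is surjective -/
theorem surjective_of_surjective_fibre (t₀ : ↥T) [UniversallyClosed q] [UniversallyOpen q]
    (hs : Function.Surjective (pullback.snd c j)) : Surjective c := by
  constructor
  suffices hW : (Set.range c)ᶜ = ∅ by
    intro p
    by_contra hp
    have hp' : p ∈ (Set.range c)ᶜ := hp
    rw [hW] at hp'
    exact hp'
  refine eq_empty_of_clopen_of_fibre q q.isClosedMap q.isOpenMap _ ?_ (a t₀) ?_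
  · exact ⟨c.isOpenMap.isOpen_range.isClosed_compl, c.isClosedMap.isClosed_range.isOpen_compl⟩
  · intro p' hp' hq
    apply hp'
    obtain ⟨z, hz1, -⟩ := Scheme.Pullback.exists_preimage_pullback (f := q) (g := a) p' t₀ hq
    have hx : j (hPa.isoPullback.inv z) = p' := by
      rw [← hz1, ← Scheme.Hom.comp_apply, hPa.isoPullback_inv_fst]
    obtain ⟨y', hy'⟩ := hs (hPa.isoPullback.inv z)
    refine ⟨pullback.fst c j y', ?_⟩
    rw [← hx, ← hy', ← Scheme.Hom.comp_apply, ← Scheme.Hom.comp_apply, pullback.condition]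

end Spread

section Main

/-- the comparison morphism from a finite étale cover to the pullback of its Stein factor is an
isomorphism when the cover has a section over a geometric fibre -/
theorem isIso_lift {X S S' Y₀ : Scheme.{u}} (f : X ⟶ S) [IsProper f] [Flat f]
    [LocallyOfFinitePresentation f] (g : Y₀ ⟶ X) [IsFinite g] [Etale g] (h' : Y₀ ⟶ S')
    (ν : S' ⟶ S) [IsFinite ν] [Etale ν] (hfac : h' ≫ ν = g ≫ f) [GeometricallyConnected h']
    [UniversallyClosed h'] [Surjective h'] [ConnectedSpace ↥Y₀]
    (Ω : Type u) [Field Ω] [IsAlgClosed Ω] (s : Spec (CommRingCat.of Ω) ⟶ S)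
    [ConnectedSpace ↥(pullback f s)] [IsReduced (pullback f s)]
    (σ : pullback f s ⟶ Y₀) (hσ : σ ≫ g = pullback.fst f s) :
    IsIso (pullback.lift h' g hfac : Y₀ ⟶ pullback ν f) := by
  haveI : Flat (h' ≫ ν) := by rw [hfac]; infer_instance
  haveI : LocallyOfFinitePresentation (h' ≫ ν) := by rw [hfac]; infer_instance
  obtain ⟨hflat, hlfp⟩ := flat_lfp_of_comp_etale h' ν
  haveI := hflat
  haveI := hlfp
  haveI : ConnectedSpace ↥S' := h'.surjective.connectedSpace h'.continuous
  obtain ⟨c, hcdef⟩ : ∃ c : Y₀ ⟶ pullback ν f, c = pullback.lift h' g hfac := ⟨_, rfl⟩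
  rw [← hcdef]
  have hc1 : c ≫ pullback.fst ν f = h' := by rw [hcdef]; exact pullback.lift_fst _ _ _
  have hc2 : c ≫ pullback.snd ν f = g := by rw [hcdef]; exact pullback.lift_snd _ _ _
  haveI : IsFinite (c ≫ pullback.snd ν f) := by rw [hc2]; infer_instance
  haveI : Etale (c ≫ pullback.snd ν f) := by rw [hc2]; infer_instance
  haveI : IsFinite c := IsFinite.of_comp c (pullback.snd ν f)
  haveI : Etale c := Etale.of_comp c (pullback.snd ν f)
  -- the geometric point of the Stein factor
  haveI : IsIso (pullback.snd f s).appTop :=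
    isIso_appTop_of_connected_reduced Ω (pullback.snd f s)
  haveI : IsAffine (pullback ν s) := isAffine_of_isAffineHom (pullback.snd ν s)
  have hmcond : (σ ≫ h') ≫ ν = pullback.snd f s ≫ s := by
    rw [Category.assoc, hfac, ← Category.assoc, hσ, pullback.condition]
  obtain ⟨a', ha', -⟩ := existsUnique_fac_of_isIso_appTop (pullback.snd f s)
    (pullback.lift (σ ≫ h') (pullback.snd f s) hmcond : pullback f s ⟶ pullback ν s)
  have ha'2 : a' ≫ pullback.snd ν s = 𝟙 _ := by
    apply eq_of_comp_eq_of_isIso_appTop (pullback.snd f s)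
    rw [← Category.assoc, ha', pullback.lift_snd, Category.comp_id]
  obtain ⟨a, hadef⟩ : ∃ a : Spec (CommRingCat.of Ω) ⟶ S', a = a' ≫ pullback.fst ν s :=
    ⟨_, rfl⟩
  have ha1 : σ ≫ h' = pullback.snd f s ≫ a := by
    rw [hadef, ← Category.assoc, ha', pullback.lift_fst]
  have ha2 : a ≫ ν = s := by
    rw [hadef, Category.assoc, pullback.condition, ← Category.assoc, ha'2, Category.id_comp]
  -- the fibre square
  have hjcond : (pullback.snd f s ≫ a) ≫ ν = pullback.fst f s ≫ f := by
    rw [Category.assoc, ha2, pullback.condition]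
  obtain ⟨j, hjdef⟩ : ∃ j : pullback f s ⟶ pullback ν f,
      j = pullback.lift (pullback.snd f s ≫ a) (pullback.fst f s) hjcond := ⟨_, rfl⟩
  have hj1 : j ≫ pullback.fst ν f = pullback.snd f s ≫ a := by
    rw [hjdef]; exact pullback.lift_fst _ _ _
  have hj2 : j ≫ pullback.snd ν f = pullback.fst f s := by
    rw [hjdef]; exact pullback.lift_snd _ _ _
  have hPa : IsPullback j (pullback.snd f s) (pullback.fst ν f) a := by
    refine IsPullback.of_right ?_ hj1 (IsPullback.of_hasPullback ν f).flip
    rw [hj2, ha2]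
    exact IsPullback.of_hasPullback f s
  -- the section
  have hσc : σ ≫ c = j := by
    apply pullback.hom_ext
    · rw [Category.assoc, hc1, hj1, ha1]
    · rw [Category.assoc, hc2, hj2, hσ]
  have hσ'cond : σ ≫ c = 𝟙 _ ≫ j := by rw [Category.id_comp, hσc]
  obtain ⟨σ', hσ'def⟩ : ∃ σ' : pullback f s ⟶ pullback c j,
      σ' = pullback.lift σ (𝟙 _) hσ'cond := ⟨_, rfl⟩
  have hσ'1 : σ' ≫ pullback.snd c j = 𝟙 _ := by
    rw [hσ'def]; exact pullback.lift_snd _ _ _
  haveI : ConnectedSpace ↥(pullback c j) := by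
    have hbig := (IsPullback.of_hasPullback c j).paste_vert hPa
    rw [hc1] at hbig
    exact GeometricallyConnected.geometrically_connectedSpace (f := h') a _ _ hbig
  haveI : Nonempty ↥(pullback f s) := inferInstance
  obtain ⟨-, hc'iso⟩ := isIso_of_section (pullback.snd c j) σ' hσ'1
  haveI := hc'iso
  -- conclusion
  haveI : UniversallyClosed (c ≫ pullback.fst ν f) := by rw [hc1]; infer_instance
  haveI : UniversallyOpen (c ≫ pullback.fst ν f) := by rw [hc1]; infer_instance
  obtain ⟨t₀⟩ : Nonempty ↥(Spec (CommRingCat.of Ω)) :=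
    inferInstanceAs (Nonempty (PrimeSpectrum Ω))
  haveI : Mono c := mono_of_mono_fibre c (pullback.fst ν f) a j (pullback.snd f s) hPa t₀
  haveI : Surjective c := surjective_of_surjective_fibre c (pullback.fst ν f) a j
    (pullback.snd f s) hPa t₀ (by
      intro x
      refine ⟨σ' x, ?_⟩
      rw [← Scheme.Hom.comp_apply, hσ'1]
      rfl)
  exact Flat.isIso_of_surjective_of_mono c

/-- **a connected finite étale cover with a section over a geometric fibre comes from the base** -/
theorem main {X S : Scheme.{u}} (f : X ⟶ S) [IsProper f] [Flat f] [LocallyOfFinitePresentation f]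
    (hfib : ∀ (Ω : Type u) [Field Ω] [IsAlgClosed Ω] (s : Spec (CommRingCat.of Ω) ⟶ S),
      ConnectedSpace ↥(pullback f s) ∧ IsReduced (pullback f s))
    (Y : FEt.Cat X) [ConnectedSpace Y.left] (Ω : Type u) [Field Ω] [IsAlgClosed Ω]
    (s : Spec (CommRingCat.of Ω) ⟶ S) (σ : pullback f s ⟶ Y.left)
    (hσ : σ ≫ Y.hom = pullback.fst f s) :
    (FEt.restrict f).essImage Y := by
  let g : Y.left ⟶ X := Y.hom
  have hYp : IsFinite g ∧ Etale g := Y.prop
  haveI := hYp.1
  haveI := hYp.2
  have hσg : σ ≫ g = pullback.fst f s := hσ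
  haveI : IsProper (g ≫ f) := inferInstance
  haveI : Flat (g ≫ f) := inferInstance
  haveI : LocallyOfFinitePresentation (g ≫ f) := inferInstance
  have hred : ∀ (Ω' : Type u) [Field Ω'] [IsAlgClosed Ω'] (τ : Spec (CommRingCat.of Ω') ⟶ S),
      IsReduced (pullback (g ≫ f) τ) := by
    intro Ω' _ _ τ
    haveI := (hfib Ω' τ).2
    exact isReduced_pullback_comp_etale f g τ
  have het := etale_fibres_of_reduced (g ≫ f) hred
  obtain ⟨hνfin, hνet⟩ := isFinite_etale_fromNormalization (g ≫ f) het
  haveI := hνfin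
  haveI := hνet
  haveI hgc : GeometricallyConnected (g ≫ f).toNormalization :=
    geometricallyConnected_toNormalization_of_etale (g ≫ f) het
  haveI : Surjective (g ≫ f).toNormalization := inferInstance
  haveI : UniversallyClosed (g ≫ f).toNormalization := inferInstance
  haveI := (hfib Ω s).1
  haveI := (hfib Ω s).2
  haveI : ConnectedSpace ↥Y.left := inferInstance
  haveI hiso := isIso_lift f g (g ≫ f).toNormalization (g ≫ f).fromNormalization
    (g ≫ f).toNormalization_fromNormalization Ω s σ hσg
  have hc2 : pullback.lift (g ≫ f).toNormalization g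
      (g ≫ f).toNormalization_fromNormalization ≫
        pullback.snd (g ≫ f).fromNormalization f = g := pullback.lift_snd _ _ _
  obtain ⟨c, hc⟩ : ∃ c : Y.left ⟶ pullback (g ≫ f).fromNormalization f,
      c = pullback.lift (g ≫ f).toNormalization g
        (g ≫ f).toNormalization_fromNormalization := ⟨_, rfl⟩
  rw [← hc] at hiso hc2
  haveI := hiso
  refine ⟨MorphismProperty.Over.mk ⊤ (g ≫ f).fromNormalization ⟨hνfin, hνet⟩, ⟨?_⟩⟩
  exact MorphismProperty.Over.isoMk (asIso c).symm ((IsIso.inv_comp_eq c).mpr hc2.symm)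

end Main

end Groth.Agent.Helper7.FEtDesc
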